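import Groth.Agent.WeightLib.Count
import Groth.Agent.WeightLib.EtaleQF
import Mathlib.AlgebraicGeometry.Morphisms.FlatRank
import Mathlib.AlgebraicGeometry.ZariskisMainTheorem
import Mathlib.RingTheory.Etale.Field

/-!
# Number of points of geometric fibres of étale morphisms
-/

set_option backward.isDefEq.respectTransparency false
set_option backward.isDefEq.respectTransparency.types false

universe u

open CategoryTheory Limits AlgebraicGeometry IsLocalRing

namespace GeomCountLib

variable {X Y : Scheme.{u}}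

theorem card_geomFiber_eq_nGeomConnComp (f : X ⟶ Y) [LocallyQuasiFinite f] (y : Y) :
    ENat.card ↥(MoreMor.geomFiber f y) = MoreMor.nGeomConnComp f y := by
  let K := SeparableClosure (Y.residueField y)
  let π : MoreMor.geomFiber f y ⟶ Spec (.of K) := pullback.snd (f.fiberToSpecResidueField y) _
  haveI : LocallyQuasiFinite π :=
    MorphismProperty.pullback_snd _ _ (MorphismProperty.pullback_snd _ _ ‹_›)
  haveI : IsLocallyArtinian (MoreMor.geomFiber f y) := .of_locallyQuasiFinite π
  exact ENat.card_congr (Equiv.ofBijective (fun x : MoreMor.geomFiber f y ↦ ConnectedComponents.mk x)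
    ⟨fun a b h => by
      rw [ConnectedComponents.coe_eq_coe] at h
      have : a ∈ connectedComponent b := h ▸ mem_connectedComponent
      rwa [connectedComponent_eq_singleton, Set.mem_singleton_iff] at this,
    ConnectedComponents.surjective_coe⟩)

/-- A finite etale scheme over a separably closed field has as many points as its rank. -/
theorem card_eq_finrank {K : Type u} [Field K] [IsSepClosed K] {P : Scheme.{u}} (π : P ⟶ Spec (.of K))
    [IsFinite π] [Etale π] : ENat.card P = π.finrank (closedPoint K) := by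
  haveI : IsAffine P := isAffine_of_isAffineHom π
  obtain ⟨φ, hφ⟩ := Spec.map_surjective (P.isoSpec.inv ≫ π)
  algebraize [φ.hom]
  have hφ' : Spec.map φ = Spec.map (CommRingCat.ofHom (algebraMap K Γ(P, ⊤))) := rfl
  haveI : IsFinite (Spec.map φ) := by rw [hφ]; infer_instance
  haveI : Etale (Spec.map φ) := by rw [hφ]; infer_instance
  haveI : Module.Finite K Γ(P, ⊤) := RingHom.finite_algebraMap.1 ((IsFinite.SpecMap_iff _).1 ‹_›)
  haveI : Algebra.Etale K Γ(P, ⊤) :=
    RingHom.etale_algebraMap.1 ((HasRingHomProperty.Spec_iff (P := @Etale)).1 (hφ' ▸ ‹Etale (Spec.map φ)›))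
  haveI : IsArtinianRing Γ(P, ⊤) := isArtinian_of_tower K inferInstance
  letI := Fintype.ofFinite (PrimeSpectrum Γ(P, ⊤))
  rw [← Scheme.Hom.finrank_comp_left_of_isIso P.isoSpec.inv π, ← hφ, hφ',
    Scheme.Hom.finrank_SpecMap_algebraMap, Module.rankAtStalk_eq_finrank_of_free, Pi.natCast_apply, Nat.cast_id,
    LinearEquiv.finrank_eq (Algebra.FormallyEtale.equivPiOfIsSepClosed K Γ(P, ⊤)).toLinearEquiv,
    Module.finrank_fintype_fun_eq_card, ← Nat.card_eq_fintype_card, ← ENat.card_eq_coe_natCard]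
  exact ENat.card_congr (TopCat.homeoOfIso (Scheme.forgetToTop.mapIso P.isoSpec)).toEquiv

/-- Over an open where the morphism is finite, the count is the rank. -/
theorem card_geomFiber_eq_finrank (f : X ⟶ Y) [Etale f] (U : Y.Opens) [IsFinite (f ∣_ U)] (y : Y) (hy : y ∈ U) :
    ENat.card ↥(MoreMor.geomFiber f y) = (f ∣_ U).finrank ⟨y, hy⟩ := by
  let K := SeparableClosure (Y.residueField y)
  let s : Spec (.of K) ⟶ Spec (Y.residueField y) :=
    Spec.map (CommRingCat.ofHom (algebraMap (Y.residueField y) K))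
  let π : MoreMor.geomFiber f y ⟶ Spec (.of K) := pullback.snd (f.fiberToSpecResidueField y) s
  let a : MoreMor.geomFiber f y ⟶ X := pullback.fst (f.fiberToSpecResidueField y) s ≫ f.fiberι y
  have hc : IsPullback a π f (s ≫ Y.fromSpecResidueField y) :=
    (IsPullback.of_hasPullback _ _).paste_horiz (IsPullback.of_hasPullback _ _)
  have hpt : ∀ z, (s ≫ Y.fromSpecResidueField y) z = y := fun z => by
    rw [Scheme.Hom.comp_apply]; exact Scheme.fromSpecResidueField_apply ..
  let j : Spec (.of K) ⟶ U := IsOpenImmersion.lift U.ι (s ≫ Y.fromSpecResidueField y) (by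
    rintro _ ⟨z, rfl⟩; rw [hpt, Scheme.Opens.range_ι]; exact hy)
  have hj : j ≫ U.ι = s ≫ Y.fromSpecResidueField y := IsOpenImmersion.lift_fac _ _ _
  let b : MoreMor.geomFiber f y ⟶ (f ⁻¹ᵁ U : X.Opens) := IsOpenImmersion.lift (f ⁻¹ᵁ U).ι a (by
    rintro _ ⟨z, rfl⟩
    rw [Scheme.Opens.range_ι]
    show f (a z) ∈ U
    rw [← Scheme.Hom.comp_apply, hc.w, Scheme.Hom.comp_apply, hpt]
    exact hy)
  have hb : b ≫ (f ⁻¹ᵁ U).ι = a := IsOpenImmersion.lift_fac _ _ _
  have hbp : IsPullback b π (f ∣_ U) j := by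
    refine IsPullback.of_right (h₁₂ := (f ⁻¹ᵁ U).ι) (h₂₂ := U.ι) (v₁₃ := f) (by rwa [hb, hj]) ?_
      (isPullback_morphismRestrict f U).flip
    rw [← cancel_mono U.ι, Category.assoc, Category.assoc, morphismRestrict_ι, ← Category.assoc, hb, hj]
    exact hc.w
  haveI : IsFinite π := MorphismProperty.of_isPullback hbp ‹_›
  haveI : Etale π := MorphismProperty.of_isPullback hc ‹_›
  rw [card_eq_finrank π, Scheme.Hom.finrank_of_isPullback b π (f ∣_ U) j hbp]
  congr 2
  exact Subtype.ext ((Scheme.Hom.comp_apply j U.ι _).symm.trans ((congrArg (fun g : Spec (.of K) ⟶ Y => g (closedPoint K)) hj).trans (hpt _)))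

variable (f : X ⟶ Y) [Etale f] [IsSeparated f] [QuasiCompact f]

theorem eventually_lt {y : Y} {c : ℕ∞} (hc : c < ENat.card ↥(MoreMor.geomFiber f y)) :
    ∀ᶠ z in nhds y, c < ENat.card ↥(MoreMor.geomFiber f z) := by
  haveI := WeightLib.locallyQuasiFinite_of_etale f
  obtain ⟨V, hV, hle⟩ := WeightLib.nGeomConnComp_le_nhds (f := f) y fun x _ => WeightLib.isUnivOpenAt_of_universallyOpen x
  filter_upwards [hV] with z hz
  rw [card_geomFiber_eq_nGeomConnComp] at hc ⊢
  exact hc.trans_le (hle z hz)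

/-- The count is constant near `y` iff `f` is finite near `y`. -/
theorem eventually_eq_iff (y : Y) :
    (∃ U : Y.Opens, y ∈ U ∧ ∀ y' : Y, y' ∈ U →
      ENat.card ↥(MoreMor.geomFiber f y') = ENat.card ↥(MoreMor.geomFiber f y)) ↔
      ∃ U : Y.Opens, y ∈ U ∧ IsFinite (f ∣_ U) := by
  haveI := WeightLib.locallyQuasiFinite_of_etale f
  constructor
  · rintro ⟨U, hy, hU⟩
    obtain ⟨V, hyV, hV⟩ := WeightLib.exists_proper_nhd (f := f) y
      (fun x _ => WeightLib.isUnivOpenAt_of_universallyOpen x)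
      ⟨U, U.isOpen.mem_nhds hy, fun z hz => by
        rw [← card_geomFiber_eq_nGeomConnComp, ← card_geomFiber_eq_nGeomConnComp]; exact hU z hz⟩
    exact ⟨V, hyV, (IsFinite.iff_isProper_and_locallyQuasiFinite _).2 ⟨hV, inferInstance⟩⟩
  · rintro ⟨U, hy, hU⟩
    obtain ⟨W, hWo, hyW, hW⟩ := IsLocallyConstant.iff_exists_open _ |>.1
      (f ∣_ U).isLocallyConstant_finrank ⟨y, hy⟩
    refine ⟨U.ι ''ᵁ ⟨W, hWo⟩, ⟨⟨y, hy⟩, hyW, rfl⟩, ?_⟩
    rintro _ ⟨z, hz, rfl⟩
    exact (card_geomFiber_eq_finrank f U z.1 z.2).trans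
      ((congrArg Nat.cast (hW z hz)).trans (card_geomFiber_eq_finrank f U y hy).symm)

end GeomCountLib
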